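import Groth.Agent.LefPen.K568.GenericForms
import Groth.Agent.Variety.K425.HomPoly
import Groth.Agent.Variety.K426.HomFactor

/-!
# The homogeneous ideal of a quintic curve of genus two in `P^3` (algebra)

`main`: a homogeneous prime `P` of `k[x_0, …, x_3]` whose Hilbert function is bounded by `5 n - 1`, equal to it for
large `n`, and (if it is so for `n = 2`) for all `n ≥ 2`, containing a cubic form `F` without linear factors:
`F = v₁ M₁ + v₂ M₂` and `P` is generated in degrees `≥ 4` by `Q = v₁ a + v₂ b`, `F` and `G = a M₂ - b M₁`.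
-/

set_option autoImplicit false
universe u

open MvPolynomial LefPen

namespace K113.QuintAlg

section Basic

variable {k : Type u} [Field k] {n : ℕ}

/-- Multiplication by a form. -/
noncomputable def fmul {a b c : ℕ} (h : a + b = c) (A : Form n k a) : Form n k b →ₗ[k] Form n k c where
  toFun x := ⟨A.1 * x.1, h ▸ SetLike.mul_mem_graded A.2 x.2⟩
  map_add' _ _ := Subtype.ext (mul_add _ _ _)
  map_smul' _ _ := Subtype.ext (mul_smul_comm _ _ _)

@[simp] theorem fmul_val {a b c : ℕ} (h : a + b = c) (A : Form n k a) (x : Form n k b) :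
    (fmul h A x).1 = A.1 * x.1 := rfl

theorem hom {d : ℕ} (A : Form n k d) : A.1.IsHomogeneous d := A.2

theorem ne_zero {d : ℕ} {A : Form n k d} (h : A ≠ 0) : A.1 ≠ 0 := fun e => h (Subtype.ext e)

/-- The part of degree `d` of an ideal. -/
noncomputable def Pd (P : Ideal (MvPolynomial (Fin (n + 1)) k)) (d : ℕ) : Submodule k (Form n k d) :=
  (P.restrictScalars k).comap (Submodule.subtype _)

theorem mem_Pd {P : Ideal (MvPolynomial (Fin (n + 1)) k)} {d : ℕ} (x : Form n k d) : x ∈ Pd P d ↔ x.1 ∈ P := Iff.rfl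

theorem totalDegree_eq {d : ℕ} {A : Form n k d} (h : A ≠ 0) : A.1.totalDegree = d :=
  (hom A).totalDegree (ne_zero h)

theorem homogeneousComponent_mul {σ : Type*} (k : Type*) [Field k] (i j : ℕ) (F : MvPolynomial σ k)
    {Q : MvPolynomial σ k} (hQ : Q.IsHomogeneous j) :
    MvPolynomial.homogeneousComponent (i + j) (F * Q) = MvPolynomial.homogeneousComponent i F * Q := by
  classical
  let : GradedAlgebra (MvPolynomial.homogeneousSubmodule σ k) := MvPolynomial.gradedAlgebra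
  have h1 := DirectSum.coe_decompose_mul_add_of_right_mem (MvPolynomial.homogeneousSubmodule σ k) (i := i) (a := F)
    (b := Q) ((MvPolynomial.mem_homogeneousSubmodule j Q).2 hQ)
  have h2 : ∀ (G : MvPolynomial σ k) (s : ℕ),
      (DirectSum.decompose (MvPolynomial.homogeneousSubmodule σ k) G s : MvPolynomial σ k) =
        MvPolynomial.homogeneousComponent s G := by
    intro G s
    exact MvPolynomial.decomposition.decompose'_apply G s
  rw [h2, h2] at h1
  exact h1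

/-- A form divisible by a form is the product with a form. -/
theorem exists_of_dvd {a b c : ℕ} (h : a + b = c) (A : Form n k a) (y : Form n k c) (hd : A.1 ∣ y.1) :
    ∃ x : Form n k b, y.1 = A.1 * x.1 := by
  obtain ⟨p, hp⟩ := hd
  refine ⟨⟨homogeneousComponent b p, homogeneousComponent_isHomogeneous b p⟩, ?_⟩
  change y.1 = A.1 * homogeneousComponent b p
  have h1 : homogeneousComponent (b + a) (p * A.1) = y.1 := by
    rw [mul_comm, ← hp, homogeneousComponent_of_mem (n := c) y.2, if_pos (by omega)]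
  rw [homogeneousComponent_mul k b a p A.2] at h1
  rw [← h1, mul_comm]

theorem eq_zero_of_dvd {a c : ℕ} (h : c < a) (A : Form n k a) (y : Form n k c) (hd : A.1 ∣ y.1) : y = 0 := by
  by_contra hy
  obtain ⟨p, hp⟩ := hd
  have h1 := totalDegree_eq hy
  have h0 := ne_zero hy
  have hA : A ≠ 0 := by rintro rfl; exact h0 (by rw [hp]; exact zero_mul _)
  have hp0 : p ≠ 0 := by rintro rfl; exact h0 (by rw [hp, mul_zero])
  rw [hp, totalDegree_mul_of_isDomain (ne_zero hA) hp0, totalDegree_eq hA] at h1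
  omega

/-- A form of degree zero is a constant. -/
theorem exists_C (c : Form n k 0) : ∃ t : k, c.1 = C t := by
  refine ⟨coeff 0 c.1, ?_⟩
  exact totalDegree_eq_zero_iff_eq_C.mp (Nat.le_zero.mp (hom c).totalDegree_le)

/-- A form dividing a form of the same degree. -/
theorem exists_smul {a : ℕ} (A y : Form n k a) (hd : A.1 ∣ y.1) : ∃ t : k, y = t • A := by
  obtain ⟨x, hx⟩ := exists_of_dvd (add_zero a) A y hd
  obtain ⟨t, ht⟩ := exists_C x
  refine ⟨t, Subtype.ext ?_⟩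
  change y.1 = t • A.1
  rw [hx, ht, smul_eq_C_mul, mul_comm]

/-- Linear forms are prime. -/
theorem prime_lin {l : Form n k 1} (h : l ≠ 0) : Prime l.1 := by
  rw [← UniqueFactorizationMonoid.irreducible_iff_prime]
  refine ⟨fun hu => ?_, fun u v huv => ?_⟩
  · have h1 := totalDegree_eq h
    have h2 := MvPolynomial.isUnit_iff_totalDegree_of_isReduced.1 hu
    omega
  · have h0 : u * v ≠ 0 := by rw [← huv]; exact ne_zero h
    have hu := K425.HomPoly.isHomogeneous_of_mul (g := u) (h := v) (n := 1) (huv ▸ hom l) h0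
    have hv := K425.HomPoly.isHomogeneous_of_mul (g := v) (h := u) (n := 1) (by rw [mul_comm]; exact huv ▸ hom l)
      (by rwa [mul_comm])
    have hd : u.totalDegree + v.totalDegree = 1 := by
      rw [← totalDegree_mul_of_isDomain (left_ne_zero_of_mul h0) (right_ne_zero_of_mul h0), ← huv]
      exact totalDegree_eq h
    rcases Nat.eq_zero_or_pos u.totalDegree with h1 | h1
    · exact Or.inl (K426.HomFactor.isUnit_of_isHomogeneous_zero (h1 ▸ hu) (left_ne_zero_of_mul h0))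
    · have h2 : v.totalDegree = 0 := by omega
      exact Or.inr (K426.HomFactor.isUnit_of_isHomogeneous_zero (h2 ▸ hv) (right_ne_zero_of_mul h0))

/-- A quadric in a prime ideal without linear forms is prime. -/
theorem prime_quad (P : Ideal (MvPolynomial (Fin (n + 1)) k)) [hP : P.IsPrime]
    (hlin : ∀ l : Form n k 1, l.1 ∈ P → l = 0) {Q : Form n k 2} (hQ0 : Q ≠ 0) (hQP : Q.1 ∈ P) : Prime Q.1 := by
  rw [← UniqueFactorizationMonoid.irreducible_iff_prime]
  obtain ⟨d, f, hf, hfi, hfP, u, hfu⟩ := K425.HomPoly.exists_irreducible_dvd P (hom Q) (ne_zero hQ0) hQP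
  have hQ0' := ne_zero hQ0
  have hQh := hom Q
  rw [hfu] at hQ0' hQh ⊢
  have hf0 : f ≠ 0 := hfi.ne_zero
  have hu0 : u ≠ 0 := right_ne_zero_of_mul hQ0'
  have hu : u.IsHomogeneous u.totalDegree :=
    K425.HomPoly.isHomogeneous_of_mul (g := u) (h := f) (n := 2) (by rwa [mul_comm]) (by rwa [mul_comm])
  have hd : f.totalDegree = d := hf.totalDegree hf0
  have h2 : f.totalDegree + u.totalDegree = 2 := by
    rw [← totalDegree_mul_of_isDomain hf0 hu0]
    exact hQh.totalDegree hQ0'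
  have hd1 : d ≠ 1 := fun h => hf0 (congrArg Subtype.val (hlin ⟨f, h ▸ hf⟩ hfP))
  have hd0 : d ≠ 0 := fun h => hfi.not_isUnit (K426.HomFactor.isUnit_of_isHomogeneous_zero (h ▸ hf) hf0)
  have hu' : u.totalDegree = 0 := by omega
  have hunit := K426.HomFactor.isUnit_of_isHomogeneous_zero (hu' ▸ hu) hu0
  exact (irreducible_mul_isUnit hunit).mpr hfi

end Basic

section Pair

variable {k : Type u} [Field k] {n : ℕ}

/-- `(x, y) ↦ A x + B y`. -/
noncomputable def pairMap {a b c a' b' : ℕ} (ha : a + a' = c) (hb : b + b' = c) (A : Form n k a) (B : Form n k b) :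
    (Form n k a' × Form n k b') →ₗ[k] Form n k c :=
  (fmul ha A).coprod (fmul hb B)

theorem pairMap_val {a b c a' b' : ℕ} (ha : a + a' = c) (hb : b + b' = c) (A : Form n k a) (B : Form n k b)
    (z : Form n k a' × Form n k b') : (pairMap ha hb A B z).1 = A.1 * z.1.1 + B.1 * z.2.1 := rfl

theorem range_pairMap_le {a b c a' b' : ℕ} (ha : a + a' = c) (hb : b + b' = c) (A : Form n k a) (B : Form n k b)
    {P : Ideal (MvPolynomial (Fin (n + 1)) k)} (hA : A.1 ∈ P) (hB : B.1 ∈ P) :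
    LinearMap.range (pairMap ha hb A B) ≤ Pd P c := by
  rintro _ ⟨z, rfl⟩
  rw [mem_Pd, pairMap_val]
  exact P.add_mem (P.mul_mem_right _ hA) (P.mul_mem_right _ hB)

/-- Two coprime forms in a homogeneous ideal: a lower bound for its dimension. -/
theorem pair {a b m : ℕ} (A : Form n k a) (B : Form n k b) (hA : Prime A.1) (hB : ¬ A.1 ∣ B.1)
    (P : Ideal (MvPolynomial (Fin (n + 1)) k)) (hAP : A.1 ∈ P) (hBP : B.1 ∈ P) :
    Module.finrank k (Form n k (m + b)) + Module.finrank k (Form n k (m + a)) ≤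
      Module.finrank k (Pd P (m + a + b)) + Module.finrank k (Form n k m) := by
  let Φ := pairMap (c := m + a + b) (a' := m + b) (b' := m + a) (by omega) (by omega) A B
  have h1 := Φ.finrank_range_add_finrank_ker
  rw [Module.finrank_prod] at h1
  have h2 : Module.finrank k (LinearMap.range Φ) ≤ Module.finrank k (Pd P (m + a + b)) :=
    Submodule.finrank_mono (range_pairMap_le _ _ A B hAP hBP)
  let Ψ : Form n k m →ₗ[k] (Form n k (m + b) × Form n k (m + a)) :=
    LinearMap.prod (-(fmul (by omega) B)) (fmul (by omega) A)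
  have h3 : LinearMap.ker Φ ≤ LinearMap.range Ψ := by
    rintro ⟨x, y⟩ hz
    rw [LinearMap.mem_ker] at hz
    have hz' : A.1 * x.1 + B.1 * y.1 = 0 := congrArg Subtype.val hz
    have hdvd : A.1 ∣ B.1 * y.1 := ⟨-x.1, by linear_combination hz'⟩
    obtain ⟨h, hh⟩ := exists_of_dvd (b := m) (by omega) A y ((hA.dvd_or_dvd hdvd).resolve_left hB)
    refine ⟨h, Prod.ext (Subtype.ext ?_) (Subtype.ext ?_)⟩
    · change -(B.1 * h.1) = x.1
      rw [hh] at hz'
      apply mul_left_cancel₀ hA.ne_zero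
      linear_combination -hz'
    · exact hh.symm
  have h4 : Module.finrank k (LinearMap.ker Φ) ≤ Module.finrank k (Form n k m) :=
    (Submodule.finrank_mono h3).trans (LinearMap.finrank_range_le Ψ)
  omega

end Pair


section Triple

variable {k : Type u} [Field k] {n : ℕ}

theorem not_lin_dvd {Q : Form n k 2} (hQ : Prime Q.1) {l : Form n k 1} (hl : l ≠ 0) : ¬ l.1 ∣ Q.1 := by
  intro h
  obtain ⟨x, hx⟩ := exists_of_dvd (b := 1) (by omega) l Q h
  have h1 : Q.1 ∣ l.1 * x.1 := ⟨1, by rw [mul_one, hx]⟩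
  rcases hQ.dvd_or_dvd h1 with h2 | h2
  · exact hl (eq_zero_of_dvd (by omega) Q l h2)
  · have h3 := eq_zero_of_dvd (by omega) Q x h2
    rw [h3] at hx
    exact hQ.ne_zero (by rw [hx]; exact mul_zero _)

/-- `(x, y, z) ↦ Q x + F y + G z`. -/
noncomputable def triMap (m : ℕ) (Q : Form n k 2) (F G : Form n k 3) :
    (Form n k (m + 2) × Form n k (m + 1) × Form n k (m + 1)) →ₗ[k] Form n k (m + 4) :=
  (fmul (by omega) Q).coprod ((fmul (by omega) F).coprod (fmul (by omega) G))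

theorem triMap_val (m : ℕ) (Q : Form n k 2) (F G : Form n k 3)
    (w : Form n k (m + 2) × Form n k (m + 1) × Form n k (m + 1)) :
    (triMap m Q F G w).1 = Q.1 * w.1.1 + (F.1 * w.2.1.1 + G.1 * w.2.2.1) := rfl

theorem triple (m : ℕ) {v1 v2 a b : Form n k 1} {M1 M2 Q : Form n k 2} {F G : Form n k 3}
    (hQ : Q.1 = v1.1 * a.1 + v2.1 * b.1) (hF : F.1 = v1.1 * M1.1 + v2.1 * M2.1)
    (hG : G.1 = a.1 * M2.1 - b.1 * M1.1) (hQp : Prime Q.1) (hQF : ¬ Q.1 ∣ F.1) (hv1 : v1 ≠ 0) :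
    Module.finrank k (Form n k (m + 2)) + (Module.finrank k (Form n k (m + 1)) + Module.finrank k (Form n k (m + 1))) ≤
      Module.finrank k (LinearMap.range (triMap m Q F G)) +
        (Module.finrank k (Form n k m) + Module.finrank k (Form n k m)) := by
  have h1 := (triMap m Q F G).finrank_range_add_finrank_ker
  rw [Module.finrank_prod, Module.finrank_prod] at h1
  let Ψ : (Form n k m × Form n k m) →ₗ[k] (Form n k (m + 2) × Form n k (m + 1) × Form n k (m + 1)) :=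
    LinearMap.prod (-((fmul (by omega) M1).coprod (fmul (by omega) M2)))
      (LinearMap.prod ((fmul (by omega) a).coprod (fmul (by omega) b))
        ((-(fmul (by omega) v2)).coprod (fmul (by omega) v1)))
  have hv1p := prime_lin hv1
  have h3 : LinearMap.ker (triMap m Q F G) ≤ LinearMap.range Ψ := by
    rintro ⟨x, y, z⟩ hz
    rw [LinearMap.mem_ker] at hz
    have hz' : Q.1 * x.1 + (F.1 * y.1 + G.1 * z.1) = 0 := congrArg Subtype.val hz
    have e1 : Q.1 * (v1.1 * x.1 + z.1 * M2.1) + F.1 * (v1.1 * y.1 - z.1 * b.1) = 0 := by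
      rw [hG, hF, hQ] at hz'
      rw [hF, hQ]
      linear_combination v1.1 * hz'
    have d1 : Q.1 ∣ F.1 * (v1.1 * y.1 - z.1 * b.1) := ⟨-(v1.1 * x.1 + z.1 * M2.1), by linear_combination e1⟩
    have d2 := (hQp.dvd_or_dvd d1).resolve_left hQF
    obtain ⟨γ, hγ⟩ := exists_of_dvd (b := m) (by omega) Q
      (fmul (c := m + 2) (by omega) v1 y - fmul (c := m + 2) (by omega) b z)
      (by
        change Q.1 ∣ v1.1 * y.1 - b.1 * z.1
        rwa [mul_comm b.1 z.1])
    replace hγ : v1.1 * y.1 - b.1 * z.1 = Q.1 * γ.1 := hγ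
    have e2 : v1.1 * x.1 + z.1 * M2.1 = -(F.1 * γ.1) := by
      apply mul_left_cancel₀ hQp.ne_zero
      linear_combination e1 - F.1 * hγ
    have hb : ¬ v1.1 ∣ b.1 := by
      rintro ⟨c, hc⟩
      refine not_lin_dvd hQp hv1 ⟨a.1 + v2.1 * c, ?_⟩
      rw [hQ, hc]
      ring
    have d3 : v1.1 ∣ b.1 * (z.1 + v2.1 * γ.1) := ⟨y.1 - a.1 * γ.1, by rw [hQ] at hγ; linear_combination -hγ⟩
    obtain ⟨δ, hδ⟩ := exists_of_dvd (b := m) (by omega) v1 (z + fmul (c := m + 1) (by omega) v2 γ)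
      ((hv1p.dvd_or_dvd d3).resolve_left hb)
    replace hδ : z.1 + v2.1 * γ.1 = v1.1 * δ.1 := hδ
    refine ⟨(γ, δ), Prod.ext (Subtype.ext ?_) (Prod.ext (Subtype.ext ?_) (Subtype.ext ?_))⟩
    · change -(M1.1 * γ.1 + M2.1 * δ.1) = x.1
      apply mul_left_cancel₀ hv1p.ne_zero
      rw [hF] at e2
      linear_combination (-1 : MvPolynomial (Fin (n + 1)) k) * e2 + M2.1 * hδ
    · change a.1 * γ.1 + b.1 * δ.1 = y.1
      apply mul_left_cancel₀ hv1p.ne_zero
      rw [hQ] at hγ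
      linear_combination (-1 : MvPolynomial (Fin (n + 1)) k) * hγ - b.1 * hδ
    · change -(v2.1 * γ.1) + v1.1 * δ.1 = z.1
      linear_combination (-1 : MvPolynomial (Fin (n + 1)) k) * hδ
  have h4 : Module.finrank k (LinearMap.ker (triMap m Q F G)) ≤
      Module.finrank k (Form n k m) + Module.finrank k (Form n k m) := by
    rw [← Module.finrank_prod]
    exact (Submodule.finrank_mono h3).trans (LinearMap.finrank_range_le Ψ)
  omega

end Triple

section Count

variable {k : Type u} [Field k]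

theorem six_mul (m : ℕ) : 6 * Module.finrank k (Form 3 k m) = (m + 1) * (m + 2) * (m + 3) := by
  rw [K568.GenericForms.finrank_form, Nat.choose_symm_add.symm]
  have h := Nat.descFactorial_eq_factorial_mul_choose (3 + m) 3
  have h2 : Nat.factorial 3 = 6 := by decide
  rw [h2] at h
  rw [← h, show 3 + m = m + 3 by omega]
  simp only [Nat.descFactorial_succ, Nat.descFactorial_zero]
  have e1 : m + 3 - 2 = m + 1 := by omega
  have e2 : m + 3 - 1 = m + 2 := by omega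
  have e3 : m + 3 - 0 = m + 3 := by omega
  rw [e1, e2, e3]
  ring

theorem finrank0 : Module.finrank k (Form 3 k 0) = 1 := by rw [K568.GenericForms.finrank_form]; decide
theorem finrank1 : Module.finrank k (Form 3 k 1) = 4 := by rw [K568.GenericForms.finrank_form]; decide
theorem finrank2 : Module.finrank k (Form 3 k 2) = 10 := by rw [K568.GenericForms.finrank_form]; decide
theorem finrank3 : Module.finrank k (Form 3 k 3) = 20 := by rw [K568.GenericForms.finrank_form]; decide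
theorem finrank4 : Module.finrank k (Form 3 k 4) = 35 := by rw [K568.GenericForms.finrank_form]; decide

end Count

section Main

variable {k : Type u} [Field k]

theorem not_dvd_of_not_lin {Q : Form 3 k 2} {F : Form 3 k 3} (hFl : ∀ l : Form 3 k 1, l ≠ 0 → ¬ l.1 ∣ F.1)
    (hF0 : F ≠ 0) : ¬ Q.1 ∣ F.1 := by
  intro h
  obtain ⟨x, hx⟩ := exists_of_dvd (b := 1) (by omega) Q F h
  have hx0 : x ≠ 0 := by
    rintro rfl
    exact ne_zero hF0 (by rw [hx]; exact mul_zero _)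
  exact hFl x hx0 ⟨Q.1, by rw [hx, mul_comm]⟩

/-- No linear form: two coprime forms of degrees `1` and `3` have too small a Hilbert function. -/
theorem lin_eq_zero (P : Ideal (MvPolynomial (Fin 4) k)) (F : Form 3 k 3) (hF : F.1 ∈ P)
    (hFl : ∀ l : Form 3 k 1, l ≠ 0 → ¬ l.1 ∣ F.1) (m : ℕ)
    (hm : Module.finrank k (Form 3 k (m + 4)) = Module.finrank k (Pd P (m + 4)) + (5 * (m + 4) - 1))
    (l : Form 3 k 1) (hl : l.1 ∈ P) : l = 0 := by
  by_contra h0
  have h1 : Module.finrank k (Form 3 k (m + 3)) + Module.finrank k (Form 3 k (m + 1)) ≤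
    Module.finrank k (Pd P (m + 4)) + Module.finrank k (Form 3 k m) := pair l F (prime_lin h0) (hFl l h0) P hl hF (m := m)
  have t0 := six_mul (k := k) m
  have t1 := six_mul (k := k) (m + 1)
  have t3 := six_mul (k := k) (m + 3)
  have t4 := six_mul (k := k) (m + 4)
  have h2 : 5 * (m + 4) - 1 = 5 * m + 19 := by omega
  rw [h2] at hm
  nlinarith

theorem quad_unique (P : Ideal (MvPolynomial (Fin 4) k)) (m : ℕ)
    (hm : Module.finrank k (Form 3 k (m + 4)) = Module.finrank k (Pd P (m + 4)) + (5 * (m + 4) - 1))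
    {Q Q' : Form 3 k 2} (hQ : Prime Q.1) (hQP : Q.1 ∈ P) (hQP' : Q'.1 ∈ P) : Q.1 ∣ Q'.1 := by
  by_contra h0
  have h1 : Module.finrank k (Form 3 k (m + 2)) + Module.finrank k (Form 3 k (m + 2)) ≤
    Module.finrank k (Pd P (m + 4)) + Module.finrank k (Form 3 k m) := pair Q Q' hQ h0 P hQP hQP' (m := m)
  have t0 := six_mul (k := k) m
  have t2 := six_mul (k := k) (m + 2)
  have t4 := six_mul (k := k) (m + 4)
  have h2 : 5 * (m + 4) - 1 = 5 * m + 19 := by omega
  rw [h2] at hm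
  nlinarith

theorem exists_two {V W : Type*} [AddCommGroup V] [Module k V] [AddCommGroup W] [Module k W] (Ψ : V →ₗ[k] W)
    (h : 2 ≤ Module.finrank k (LinearMap.ker Ψ)) :
    ∃ w1 w2 : V, Ψ w1 = 0 ∧ Ψ w2 = 0 ∧ ∀ c1 c2 : k, c1 • w1 + c2 • w2 = 0 → c1 = 0 ∧ c2 = 0 := by
  obtain ⟨w, hw⟩ := exists_linearIndependent_of_le_finrank h
  refine ⟨(w 0).1, (w 1).1, (w 0).2, (w 1).2, fun c1 c2 h => ?_⟩
  have h6 := Fintype.linearIndependent_iff.1 hw ![c1, c2] (by
    rw [Fin.sum_univ_two]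
    exact Subtype.ext h)
  exact ⟨h6 0, h6 1⟩

/-- The syzygy argument in degree four. -/
theorem exists_syz {Q : Form 3 k 2} {F G : Form 3 k 3} (hQp : Prime Q.1) (hQF : ¬ Q.1 ∣ F.1)
    (hG : ¬ ∃ (B : Form 3 k 1) (μ : k), G.1 = B.1 * Q.1 + μ • F.1)
    {l1 l2 m1 m2 : Form 3 k 1} {A1 A2 : Form 3 k 2}
    (e1 : l1.1 * G.1 = A1.1 * Q.1 + m1.1 * F.1) (e2 : l2.1 * G.1 = A2.1 * Q.1 + m2.1 * F.1)
    (hl : ∀ c1 c2 : k, c1 • l1 + c2 • l2 = 0 → c1 = 0 ∧ c2 = 0) :
    ∃ c : k, c ≠ 0 ∧ l1.1 * m2.1 - l2.1 * m1.1 = C c * Q.1 ∧ l2.1 * A1.1 - l1.1 * A2.1 = C c * F.1 := by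
  have hl1 : l1 ≠ 0 := by
    rintro rfl
    have := hl 1 0 (by simp)
    exact one_ne_zero this.1
  have hl12 : ¬ l1.1 ∣ l2.1 := by
    intro h
    obtain ⟨t, ht⟩ := exists_smul l1 l2 h
    have := hl t (-1) (by
      apply Subtype.ext
      rw [ht]
      change t • l1.1 + (-1 : k) • (t • l1.1) = 0
      rw [neg_smul, one_smul, add_neg_cancel])
    exact neg_ne_zero.mpr one_ne_zero this.2
  have e3 : (l2.1 * A1.1 - l1.1 * A2.1) * Q.1 = (l1.1 * m2.1 - l2.1 * m1.1) * F.1 := by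
    linear_combination (-1 : MvPolynomial (Fin 4) k) * l2.1 * e1 + l1.1 * e2
  have d1 : Q.1 ∣ F.1 * (l1.1 * m2.1 - l2.1 * m1.1) := ⟨l2.1 * A1.1 - l1.1 * A2.1, by linear_combination -e3⟩
  have d2 := (hQp.dvd_or_dvd d1).resolve_left hQF
  obtain ⟨c, hc⟩ := exists_smul Q (fmul (c := 2) (by omega) l1 m2 - fmul (c := 2) (by omega) l2 m1) d2
  have hc' : l1.1 * m2.1 - l2.1 * m1.1 = C c * Q.1 := by
    have h := congrArg Subtype.val hc
    rw [← smul_eq_C_mul]
    exact h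
  have e4 : l2.1 * A1.1 - l1.1 * A2.1 = C c * F.1 := by
    apply mul_right_cancel₀ hQp.ne_zero
    rw [e3, hc']
    ring
  refine ⟨c, ?_, hc', e4⟩
  rintro rfl
  rw [C_0, zero_mul] at hc' e4
  have hl1p := prime_lin hl1
  have d3 : l1.1 ∣ l2.1 * m1.1 := ⟨m2.1, by linear_combination -hc'⟩
  obtain ⟨μ, hμ⟩ := exists_smul l1 m1 ((hl1p.dvd_or_dvd d3).resolve_left hl12)
  have d4 : l1.1 ∣ l2.1 * A1.1 := ⟨A2.1, by linear_combination e4⟩
  obtain ⟨B, hB⟩ := exists_of_dvd (b := 1) (by omega) l1 A1 ((hl1p.dvd_or_dvd d4).resolve_left hl12)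
  refine hG ⟨B, μ, ?_⟩
  apply mul_left_cancel₀ hl1p.ne_zero
  have hμ' : m1.1 = μ • l1.1 := congrArg Subtype.val hμ
  rw [e1, hB, hμ', smul_eq_C_mul, smul_eq_C_mul]
  ring

theorem final (P : Ideal (MvPolynomial (Fin 4) k)) [hP : P.IsPrime] (F : Form 3 k 3) (hF : F.1 ∈ P)
    (hlin : ∀ l : Form 3 k 1, l.1 ∈ P → l = 0)
    (hall : ∀ n, 2 ≤ n → Module.finrank k (Form 3 k n) = Module.finrank k (Pd P n) + (5 * n - 1))
    {Q : Form 3 k 2} (hQp : Prime Q.1) (hQF : ¬ Q.1 ∣ F.1) (hQP : Q.1 ∈ P) {c : k} (hc0 : c ≠ 0)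
    {l1 l2 m1 m2 : Form 3 k 1} {A1 A2 : Form 3 k 2}
    (hc1 : l1.1 * m2.1 - l2.1 * m1.1 = C c * Q.1) (hc2 : l2.1 * A1.1 - l1.1 * A2.1 = C c * F.1)
    (hind : ∀ c1 c2 : k, c1 • l1 + c2 • l2 = 0 → c1 = 0 ∧ c2 = 0) :
    ∃ (v1 v2 a b : Form 3 k 1) (M1 M2 : Form 3 k 2),
      (∀ c1 c2 : k, c1 • v1 + c2 • v2 = 0 → c1 = 0 ∧ c2 = 0) ∧
      F.1 = v1.1 * M1.1 + v2.1 * M2.1 ∧
      v1.1 * a.1 + v2.1 * b.1 ∈ P ∧ a.1 * M2.1 - b.1 * M1.1 ∈ P ∧
      ∀ (m : ℕ) (x : Form 3 k (m + 4)), x.1 ∈ P →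
        x.1 ∈ Ideal.span {v1.1 * a.1 + v2.1 * b.1, F.1, a.1 * M2.1 - b.1 * M1.1} := by
  have hcc : (C c⁻¹ : MvPolynomial (Fin 4) k) * C c = 1 := by rw [← C_mul, inv_mul_cancel₀ hc0, C_1]
  have hv1 : l2 ≠ 0 := by
    rintro rfl
    have := hind 0 1 (by simp)
    exact one_ne_zero this.2
  let M1 : Form 3 k 2 := c⁻¹ • A1
  let M2 : Form 3 k 2 := -(c⁻¹ • A2)
  let a : Form 3 k 1 := -(c⁻¹ • m1)
  let b : Form 3 k 1 := c⁻¹ • m2
  have eM1 : M1.1 = C c⁻¹ * A1.1 := smul_eq_C_mul _ _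
  have eM2 : M2.1 = -(C c⁻¹ * A2.1) := congrArg Neg.neg (smul_eq_C_mul _ _)
  have ea : a.1 = -(C c⁻¹ * m1.1) := congrArg Neg.neg (smul_eq_C_mul _ _)
  have eb : b.1 = C c⁻¹ * m2.1 := smul_eq_C_mul _ _
  have hFe : F.1 = l2.1 * M1.1 + l1.1 * M2.1 := by
    rw [eM1, eM2]
    linear_combination (-F.1) * hcc - C c⁻¹ * hc2
  have hQe : Q.1 = l2.1 * a.1 + l1.1 * b.1 := by
    rw [ea, eb]
    linear_combination (-Q.1) * hcc - C c⁻¹ * hc1
  let G : Form 3 k 3 := fmul (c := 3) (by omega) a M2 - fmul (c := 3) (by omega) b M1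
  have hG : G.1 = a.1 * M2.1 - b.1 * M1.1 := rfl
  have hGP : G.1 ∈ P := by
    have h1 : l2.1 * G.1 ∈ P := by
      have h2 : l2.1 * G.1 = M2.1 * Q.1 - b.1 * F.1 := by
        rw [hG, hQe, hFe]
        ring
      rw [h2]
      exact P.sub_mem (P.mul_mem_left _ hQP) (P.mul_mem_left _ hF)
    exact (hP.mem_or_mem h1).resolve_left fun h => hv1 (hlin l2 h)
  refine ⟨l2, l1, a, b, M1, M2, fun c1 c2 h => ?_, hFe, by rw [← hQe]; exact hQP, by rw [← hG]; exact hGP,
    fun m x hx => ?_⟩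
  · have h1 := hind c2 c1 (by rw [add_comm]; exact h)
    exact ⟨h1.2, h1.1⟩
  · rw [← hQe, ← hG]
    have h1 := triple m hQe hFe hG hQp hQF hv1
    have h2 := hall (m + 4) (by omega)
    have t0 := six_mul (k := k) m
    have t1 := six_mul (k := k) (m + 1)
    have t2 := six_mul (k := k) (m + 2)
    have t4 := six_mul (k := k) (m + 4)
    have h3 : 5 * (m + 4) - 1 = 5 * m + 19 := by omega
    rw [h3] at h2
    have h4 : LinearMap.range (triMap m Q F G) ≤ Pd P (m + 4) := by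
      rintro _ ⟨w, rfl⟩
      rw [mem_Pd, triMap_val]
      exact P.add_mem (P.mul_mem_right _ hQP) (P.add_mem (P.mul_mem_right _ hF) (P.mul_mem_right _ hGP))
    have h5 : LinearMap.range (triMap m Q F G) = Pd P (m + 4) := by
      refine Submodule.eq_of_le_of_finrank_le h4 ?_
      nlinarith
    obtain ⟨w, hw⟩ : x ∈ LinearMap.range (triMap m Q F G) := by rw [h5]; exact hx
    rw [← hw, triMap_val]
    refine Ideal.add_mem _ (Ideal.mul_mem_right _ _ (Ideal.subset_span (by simp)))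
      (Ideal.add_mem _ (Ideal.mul_mem_right _ _ (Ideal.subset_span (by simp)))
        (Ideal.mul_mem_right _ _ (Ideal.subset_span (by simp))))

theorem main (P : Ideal (MvPolynomial (Fin 4) k)) [P.IsPrime] (F : Form 3 k 3) (hF : F.1 ∈ P)
    (hFl : ∀ l : Form 3 k 1, l ≠ 0 → ¬ l.1 ∣ F.1)
    (hle : ∀ n, 1 ≤ n → Module.finrank k (Form 3 k n) ≤ Module.finrank k (Pd P n) + (5 * n - 1))
    (hlarge : ∃ t₀, ∀ n, t₀ ≤ n → Module.finrank k (Form 3 k n) = Module.finrank k (Pd P n) + (5 * n - 1))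
    (hCM : Module.finrank k (Form 3 k 2) = Module.finrank k (Pd P 2) + (5 * 2 - 1) →
      ∀ n, 2 ≤ n → Module.finrank k (Form 3 k n) = Module.finrank k (Pd P n) + (5 * n - 1)) :
    ∃ (v1 v2 a b : Form 3 k 1) (M1 M2 : Form 3 k 2),
      (∀ c1 c2 : k, c1 • v1 + c2 • v2 = 0 → c1 = 0 ∧ c2 = 0) ∧
      F.1 = v1.1 * M1.1 + v2.1 * M2.1 ∧
      v1.1 * a.1 + v2.1 * b.1 ∈ P ∧ a.1 * M2.1 - b.1 * M1.1 ∈ P ∧
      ∀ (m : ℕ) (x : Form 3 k (m + 4)), x.1 ∈ P →
        x.1 ∈ Ideal.span {v1.1 * a.1 + v2.1 * b.1, F.1, a.1 * M2.1 - b.1 * M1.1} := by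
  obtain ⟨t₀, ht₀⟩ := hlarge
  have hm := ht₀ (t₀ + 4) (by omega)
  have hlin := lin_eq_zero P F hF hFl t₀ hm
  have hF0 : F ≠ 0 := by
    rintro rfl
    refine hFl ⟨X 0, X_mem 3 k 0⟩ (fun h => ?_) (dvd_zero _)
    exact X_ne_zero (R := k) (0 : Fin 4) (congrArg Subtype.val h)
  -- the quadric
  obtain ⟨Q, hQP, hQ0⟩ : ∃ Q : Form 3 k 2, Q.1 ∈ P ∧ Q ≠ 0 := by
    have h1 := hle 2 (by omega)
    rw [finrank2] at h1
    have h2 : Pd P 2 ≠ ⊥ := by
      intro h
      rw [h, finrank_bot] at h1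
      omega
    obtain ⟨Q, hQ, hQ0⟩ := Submodule.exists_mem_ne_zero_of_ne_bot h2
    exact ⟨Q, hQ, hQ0⟩
  have hQp : Prime Q.1 := prime_quad P hlin hQ0 hQP
  have hQF := not_dvd_of_not_lin (Q := Q) hFl hF0
  have hP2 : Module.finrank k (Pd P 2) ≤ 1 := by
    refine finrank_le_one (⟨Q, hQP⟩ : Pd P 2) fun w => ?_
    obtain ⟨t, ht⟩ := exists_smul Q w.1 (quad_unique P t₀ hm hQp hQP w.2)
    exact ⟨t, Subtype.ext ht.symm⟩
  have hall := hCM (by
    have h1 := hle 2 (by omega)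
    rw [finrank2] at h1 ⊢
    omega)
  -- the cubic
  have hP3 : Module.finrank k (Pd P 3) = 6 := by
    have h := hall 3 (by omega)
    rw [finrank3] at h
    omega
  obtain ⟨G, hGP, hG⟩ : ∃ G : Form 3 k 3, G.1 ∈ P ∧ ¬ ∃ (B : Form 3 k 1) (μ : k), G.1 = B.1 * Q.1 + μ • F.1 := by
    let Φ := pairMap (c := 3) (a' := 1) (b' := 0) (by omega) (by omega) Q F
    have h1 : Module.finrank k (LinearMap.range Φ) ≤ 5 := by
      refine (LinearMap.finrank_range_le Φ).trans ?_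
      rw [Module.finrank_prod, finrank1, finrank0]
    have h2 : ¬ Pd P 3 ≤ LinearMap.range Φ := by
      intro h
      have := Submodule.finrank_mono h
      omega
    obtain ⟨G, hGP, hG⟩ := Set.not_subset.1 h2
    refine ⟨G, hGP, ?_⟩
    rintro ⟨B, μ, h⟩
    refine hG ⟨(B, ⟨C μ, isHomogeneous_C _ _⟩), Subtype.ext ?_⟩
    rw [pairMap_val, h, smul_eq_C_mul]
    change Q.1 * B.1 + F.1 * C μ = _
    ring
  -- the syzygies
  have hP4 : Module.finrank k (Pd P 4) = 16 := by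
    have h := hall 4 (by omega)
    rw [finrank4] at h
    omega
  let Ψ : (Form 3 k 1 × Form 3 k 2 × Form 3 k 1) →ₗ[k] Form 3 k 4 :=
    (fmul (by omega) G).coprod ((-(fmul (by omega) Q)).coprod (-(fmul (by omega) F)))
  have hΨv : ∀ w, (Ψ w).1 = G.1 * w.1.1 + (-(Q.1 * w.2.1.1) + -(F.1 * w.2.2.1)) := fun w => rfl
  have hΨ : LinearMap.range Ψ ≤ Pd P 4 := by
    rintro _ ⟨w, rfl⟩
    rw [mem_Pd, hΨv]
    exact P.add_mem (P.mul_mem_right _ hGP) (P.add_mem (P.neg_mem (P.mul_mem_right _ hQP))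
      (P.neg_mem (P.mul_mem_right _ hF)))
  have hker : 2 ≤ Module.finrank k (LinearMap.ker Ψ) := by
    have h1 := Ψ.finrank_range_add_finrank_ker
    rw [Module.finrank_prod, Module.finrank_prod, finrank1, finrank2] at h1
    have h2 := Submodule.finrank_mono hΨ
    omega
  obtain ⟨w1, w2, hw1, hw2, hw⟩ := exists_two Ψ hker
  have hwk : ∀ w, Ψ w = 0 → w.1.1 * G.1 = w.2.1.1 * Q.1 + w.2.2.1 * F.1 := by
    intro w h
    have h1 := congrArg Subtype.val h
    rw [hΨv] at h1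
    have h2 : G.1 * w.1.1 + (-(Q.1 * w.2.1.1) + -(F.1 * w.2.2.1)) = 0 := h1
    linear_combination h2
  have key : ∀ z, Ψ z = 0 → z.1 = 0 → z = 0 := by
    rintro ⟨z1, z2, z3⟩ hz (hz1 : z1 = 0)
    have h1 : z1.1 * G.1 = z2.1 * Q.1 + z3.1 * F.1 := hwk _ hz
    subst hz1
    have h1' : z2.1 * Q.1 + z3.1 * F.1 = 0 := by
      have h2 : ((0 : Form 3 k 1) : MvPolynomial (Fin 4) k) * G.1 = 0 := zero_mul _
      rw [← h1, h2]
    have h2 : Q.1 ∣ F.1 * z3.1 := ⟨-z2.1, by linear_combination h1'⟩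
    have h3 : z3 = 0 := eq_zero_of_dvd (by omega) Q z3 ((hQp.dvd_or_dvd h2).resolve_left hQF)
    subst h3
    have h4 : z2 = 0 := by
      apply Subtype.ext
      apply mul_right_cancel₀ hQp.ne_zero
      have h5 : ((0 : Form 3 k 1) : MvPolynomial (Fin 4) k) * F.1 = 0 := zero_mul _
      rw [h5] at h1'
      change z2.1 * Q.1 = 0 * Q.1
      linear_combination h1'
    subst h4
    rfl
  have hind : ∀ c1 c2 : k, c1 • w1.1 + c2 • w2.1 = 0 → c1 = 0 ∧ c2 = 0 := by
    intro c1 c2 h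
    refine hw c1 c2 (key _ ?_ h)
    rw [map_add, map_smul, map_smul, hw1, hw2, smul_zero, smul_zero, add_zero]
  obtain ⟨c, hc0, hc1, hc2⟩ := exists_syz (l1 := w1.1) (l2 := w2.1) (m1 := w1.2.2)
    (m2 := w2.2.2) (A1 := w1.2.1) (A2 := w2.2.1) hQp hQF hG (hwk _ hw1) (hwk _ hw2) hind
  exact final P F hF hlin hall hQp hQF hQP hc0 hc1 hc2 hind

end Main

end K113.QuintAlg
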