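import Groth.Agent.STCI.K945.Surf
import Groth.Agent.Fano.K113.QuintAlg

/-!
# The ideal sheaf of an integral subscheme of projective space from its forms of large degree

`ker_eq4`: if the forms of degree `≥ 4` vanishing on `C` are in the ideal generated by four forms vanishing on `C`, the
ideal sheaf of `C` is the sum of the ideal sheaves of the four hypersurfaces.
-/

set_option autoImplicit false
universe u

open CategoryTheory AlgebraicGeometry Limits TopologicalSpace Opposite MvPolynomial Topology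

namespace K113.QuintKer

open LefPen Groth.Agent.Lefpen.H705.ChartPoly Groth.Agent.Lefpen.H705.HypIdeal Groth.Agent.Fdesc.LocGen
open K945.Surf

variable {k : Type u} [Field k] {n : ℕ} {C : Scheme.{u}} (i : C ⟶ CohB1.ProjSpace (n + 1) k) [IsClosedImmersion i]
  [IsIntegral C]

/-- The homogeneous prime of the generic point. -/
noncomputable abbrev idl : Ideal (MvPolynomial (Fin (n + 1 + 1)) k) :=
  (ProjectiveSpectrum.asHomogeneousIdeal (i (genericPoint C))).toIdeal

variable {d₁ d₂ d₃ d₄ : ℕ} (F₁ : Form (n + 1) k d₁) (F₂ : Form (n + 1) k d₂) (F₃ : Form (n + 1) k d₃)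
  (F₄ : Form (n + 1) k d₄)

/-- The ring homomorphism from polynomials to functions on a chart. -/
noncomputable def toChart (j : Fin (n + 1 + 1)) :
    MvPolynomial (Fin (n + 1 + 1)) k →+* Γ(CohB1.ProjSpace (n + 1) k, chart (n + 1) k j) :=
  (polyToChart j : MvPolynomial (Fin (n + 1)) k →+* Γ(CohB1.ProjSpace (n + 1) k, chart (n + 1) k j)).comp
    (Groth.Agent.Sga5.ProjChart.dehom (n + 1) k j : MvPolynomial (Fin (n + 1 + 1)) k →+* _)

theorem toChart_form (j : Fin (n + 1 + 1)) {d : ℕ} (G : Form (n + 1) k d) : toChart j G.1 = dehom G j :=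
  (dehom_eq G j).symm

theorem toChart_X (j : Fin (n + 1 + 1)) : toChart (k := k) j (X j) = 1 := by
  change polyToChart j (Groth.Agent.Sga5.ProjChart.dehom (n + 1) k j (X j)) = 1
  rw [Groth.Agent.Sga5.ProjChart.dehom_X_self, map_one]

theorem app_eq_zero (j : Fin (n + 1 + 1)) {d : ℕ} (G : Form (n + 1) k d) (hG : G.1 ∈ idl i) :
    (i.app (chart (n + 1) k j)).hom (dehom G j) = 0 := by
  rw [mem_ker_iff]
  exact fun _ => hG

variable (h₁ : F₁.1 ∈ idl i) (h₂ : F₂.1 ∈ idl i) (h₃ : F₃.1 ∈ idl i) (h₄ : F₄.1 ∈ idl i)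
  (h : ∀ (m : ℕ) (x : Form (n + 1) k (m + 4)), x.1 ∈ idl i → x.1 ∈ Ideal.span {F₁.1, F₂.1, F₃.1, F₄.1})

include h₁ h₂ h₃ h₄ h

theorem mem_ker (j : Fin (n + 1 + 1)) (x : Γ(CohB1.ProjSpace (n + 1) k, chart (n + 1) k j)) :
    (i.app (chart (n + 1) k j)).hom x = 0 ↔
      x ∈ Ideal.span {dehom F₁ j, dehom F₂ j, dehom F₃ j, dehom F₄ j} := by
  constructor
  · intro hx
    obtain ⟨p, hp⟩ := (polyToChart_bijective j).2 x
    obtain ⟨d, P, hP, hp'⟩ := Groth.Agent.Lefpen.H397.ConePt.exists_dehom (k := k) j p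
    have h0 : x = dehom (⟨P, hP⟩ : Form (n + 1) k d) j := by
      rw [dehom_eq, hp', hp]
    rw [h0, mem_ker_iff] at hx
    have hhom : (P * X j ^ 4).IsHomogeneous (d + 4) := by
      have h5 := (MvPolynomial.IsHomogeneous.mul hP ((isHomogeneous_X k j).pow 4))
      rwa [one_mul] at h5
    have hz : P * X j ^ 4 ∈ idl i := by
      by_cases hj : i (genericPoint C) ∈ chart (n + 1) k j
      · exact (idl i).mul_mem_right _ (hx hj)
      · have h2 : X j ∈ idl i := by
          by_contra h3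
          exact hj h3
        exact (idl i).mul_mem_left _ ((idl i).pow_mem_of_mem h2 4 (by norm_num))
    have h6 := Ideal.mem_map_of_mem (toChart j) (h d ⟨P * X j ^ 4, hhom⟩ hz)
    rw [Ideal.map_span, Set.image_insert_eq, Set.image_insert_eq, Set.image_insert_eq, Set.image_singleton,
      toChart_form, toChart_form, toChart_form, toChart_form, map_mul, map_pow, toChart_X, one_pow, mul_one] at h6
    rw [h0, ← toChart_form j (⟨P, hP⟩ : Form (n + 1) k d)]
    exact h6
  · intro hx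
    have h2 : Ideal.span {dehom F₁ j, dehom F₂ j, dehom F₃ j, dehom F₄ j} ≤
        RingHom.ker (i.app (chart (n + 1) k j)).hom := by
      rw [Ideal.span_le]
      rintro y (rfl | rfl | rfl | rfl)
      · exact app_eq_zero i j _ h₁
      · exact app_eq_zero i j _ h₂
      · exact app_eq_zero i j _ h₃
      · exact app_eq_zero i j _ h₄
    exact h2 hx

theorem ker_eq4 : i.ker = hypIdeal F₁ ⊔ hypIdeal F₂ ⊔ hypIdeal F₃ ⊔ hypIdeal F₄ := by
  refine Scheme.IdealSheafData.ext_of_iSup_eq_top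
    (fun j : Fin (n + 1 + 1) => ⟨chart (n + 1) k j, isAffineOpen_chart j⟩) iSup_chart fun j => ?_
  rw [Scheme.IdealSheafData.ideal_sup, Pi.sup_apply, Scheme.IdealSheafData.ideal_sup, Pi.sup_apply,
    Scheme.IdealSheafData.ideal_sup, Pi.sup_apply, hypIdeal_ideal_of_le F₁ j _ le_rfl,
    hypIdeal_ideal_of_le F₂ j _ le_rfl, hypIdeal_ideal_of_le F₃ j _ le_rfl, hypIdeal_ideal_of_le F₄ j _ le_rfl,
    Scheme.Hom.ker_apply]
  have h1 : ∀ {d : ℕ} (G : Form (n + 1) k d), ores (le_refl (chart (n + 1) k j)) (dehom G j) = dehom G j := by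
    intro d G
    simp [ores]
  refine Ideal.ext fun x => ?_
  rw [RingHom.mem_ker]
  refine (mem_ker i F₁ F₂ F₃ F₄ h₁ h₂ h₃ h₄ h j x).trans ?_
  change _ ↔ x ∈ Ideal.span {ores (le_refl (chart (n + 1) k j)) (dehom F₁ j)} ⊔
    Ideal.span {ores (le_refl (chart (n + 1) k j)) (dehom F₂ j)} ⊔
    Ideal.span {ores (le_refl (chart (n + 1) k j)) (dehom F₃ j)} ⊔
    Ideal.span {ores (le_refl (chart (n + 1) k j)) (dehom F₄ j)}
  rw [h1, h1, h1, h1, ← Ideal.span_union, ← Ideal.span_union, ← Ideal.span_union, Set.union_assoc, Set.union_assoc,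
    Set.singleton_union, Set.singleton_union, Set.singleton_union]

end K113.QuintKer
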