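import Groth.Agent.AbVar.K817.PullGr
import Groth.Agent.Curves.K330.QuinticG2
import Groth.Agent.Zeta.K675.Hilb

/-!
# Surjectivity of the restriction of forms to a curve, degree by degree

`surj_succ`: if every section of `r^* O(d)` is given by a form of degree `d`, `H^1(X, r^* O(d - 1)) = 0` and
`dim X ≤ 1`, every section of `r^* O(d + 1)` is given by a form of degree `d + 1`.
-/

set_option autoImplicit false
universe u

open CategoryTheory AlgebraicGeometry Limits TopologicalSpace Opposite

namespace K113.QuintSec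

open Groth.Agent K330.FormSec LefPen Groth.Agent.Fdesc.LocGen

variable {k : Type u} [Field k] {N d : ℕ}

/-- The product of a form with a coordinate. -/
noncomputable def xmul (i : Fin (N + 1)) (G : Form N k d) : Form N k (d + 1) :=
  ⟨MvPolynomial.X i * G.1, by
    have h := SetLike.mul_mem_graded (X_mem N k i) G.2
    rwa [show 1 + d = d + 1 from add_comm 1 d] at h⟩

theorem mulVar_glob (i : Fin (N + 1)) (G : Form N k d) :
    (Groth.Agent.Fga.TwistGr.mulVar N k i (d : ℤ)).app ⊤ (glob G) =
      (show Γ(Twist.twistProjSpace N k ((d : ℤ) + 1), ⊤) from glob (xmul i G)) := by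
  refine Subtype.ext (funext fun x => Subtype.ext ?_)
  have h1 := tv_glob (xmul i G) x
  refine Eq.trans ?_ h1.symm
  change algebraMap (MvPolynomial (Fin (N + 1)) k) (Twist.Loc (CohB1.polyGrading N k) x.1) (MvPolynomial.X i) *
    tv (glob G) x = _
  rw [tv_glob, ← map_mul]
  rfl

section Pull

variable {X : Scheme.{u}} (r : X ⟶ CohB1.ProjSpace N k)

/-- The sections defined by forms, as an additive map. -/
noncomputable def secHom (d : ℕ) : Form N k d →+
    Γ((Scheme.Modules.pullback r).obj (Twist.twistProjSpace N k (d : ℤ)), ⊤) :=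
  AddMonoidHom.mk' (sec' r) (sec'_add r)

theorem surj_succ [IsNoetherian X] (hd : topologicalKrullDim X ≤ 1)
    (h1 : Subsingleton (Coh.HH X ((Scheme.Modules.pullback r).obj (Twist.twistProjSpace N k ((d : ℤ) - 1))) 1))
    (hs : Function.Surjective (fun G : Form N k d => sec' r G)) :
    Function.Surjective (fun G : Form N k (d + 1) => sec' r G) := by
  intro t
  obtain ⟨s, hs'⟩ := K817.PullGr.exists_sum (K817.PullGr.gr r) (K817.PullGr.locInv r) (d : ℤ) (fun j hj1 hj2 => by
    rcases Nat.lt_or_ge 1 j with h | h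
    · exact CurvesB.CurveRR.subsingleton_HH_of_two_le hd _ j h
    · obtain rfl : j = 1 := by omega
      exact h1) (show Γ((K817.PullGr.gr r).obj ((d : ℤ) + 1), ⊤) from t)
  choose G hG using fun i => hs (s i)
  refine ⟨∑ i, xmul i (G i), ?_⟩
  refine Eq.trans ?_ hs'
  change secHom r (d + 1) (∑ i, xmul i (G i)) = _
  rw [map_sum]
  refine Finset.sum_congr rfl fun i _ => ?_
  rw [← hG i]
  change sec' r (xmul i (G i)) = ((Scheme.Modules.pullback r).map (Groth.Agent.Fga.TwistGr.mulVar N k i (d : ℤ))).app ⊤
    (pullSec r (glob (G i)))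
  have h2 := pullback_map_pullSec r (Groth.Agent.Fga.TwistGr.mulVar N k i (d : ℤ)) (glob (G i))
  refine Eq.trans ?_ h2.symm
  rw [mulVar_glob]
  rfl

end Pull

end K113.QuintSec
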