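import Groth.Agent.Fano.K113.QuintRed
import Groth.Agent.Fano.K113.QuintKer
import Groth.Agent.Fano.K113.QuintSec
import Groth.Agent.Zeta.K467.Cone
import Groth.Agent.Surf.K33.Quadrics
import Groth.Agent.Fano.K714.JacSm
import Groth.Agent.Fano.K714.LinSp

/-!
# The classification of the quintic curves of genus two on a smooth cubic threefold

`exists_solG`: the ideal sheaf of such a curve in `P^4` is
`(v₀, v₁ a + v₂ b, v₁ M₁ + v₂ M₂, a M₂ - b M₁)` for a decomposition `f = v₀ M₀ + v₁ M₁ + v₂ M₂`.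
-/

set_option autoImplicit false
universe u
open CategoryTheory CategoryTheory.Limits AlgebraicGeometry TopologicalSpace Opposite

namespace Groth.Agent.Fano.K113.QuintClass

open Groth.Agent.Fano.K714.Rat Groth.Agent.Fano.K714.Quart Groth.Agent.Fano.K715.Quint
open _root_.K113.QuintAlg _root_.K113.QuintRed _root_.K113.QuintKer _root_.K113.QuintSec
open K330.FormSec K330.CurveDim LefPen

variable {k : Type u} [Field k]

/-- The linear functional with given coefficients. -/
noncomputable def dotL (t : Fin 5 → k) : (Fin 5 → k) →ₗ[k] k := ∑ i, t i • LinearMap.proj i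

theorem dotL_apply (t x : Fin 5 → k) : dotL t x = ∑ i, t i * x i := by
  simp [dotL, LinearMap.sum_apply]

/-- A smooth cubic threefold contains no plane. -/
theorem no_plane [IsAlgClosed k] (f : Form 4 k 3) (hf : f ≠ 0) (hs : Smooth (ps f)) (l l' : Form 4 k 1) :
    f.1 ∉ Ideal.span {l.1, l'.1} := by
  intro h
  obtain ⟨t, rfl⟩ := lin_surjective l
  obtain ⟨t', rfl⟩ := lin_surjective l'
  obtain ⟨a, b, hab⟩ := Ideal.mem_span_pair.1 h
  let U : Submodule k (Fin 5 → k) := LinearMap.ker ((dotL t).prod (dotL t'))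
  have h1 := ((dotL t).prod (dotL t')).finrank_range_add_finrank_ker
  have h2 : Module.finrank k (LinearMap.range ((dotL t).prod (dotL t'))) ≤ 2 := by
    refine (Submodule.finrank_le _).trans ?_
    rw [Module.finrank_prod, Module.finrank_self]
  rw [Module.finrank_fin_fun] at h1
  have hU0 : ∀ u ∈ U, MvPolynomial.eval u f.1 = 0 := by
    intro u hu
    rw [LinearMap.mem_ker] at hu
    have e1 : dotL t u = 0 := congrArg Prod.fst hu
    have e2 : dotL t' u = 0 := congrArg Prod.snd hu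
    rw [dotL_apply] at e1 e2
    rw [← hab, map_add, map_mul, map_mul, eval_lin, eval_lin, e1, e2, mul_zero, mul_zero, add_zero]
  have h3 : 2 * Module.finrank k (LinearMap.ker ((dotL t).prod (dotL t'))) ≤ 5 :=
    _root_.K714.LinSp.two_mul_finrank_le (d := 3) (by norm_num) f.1 (hom f) U hU0 (fun u hu hu0 =>
    Groth.Agent.Fano.K714.JacSm.exists_pderiv f (fun h1 => hf (Subtype.ext h1)) hs u hu0 (hU0 u hu))
  omega

theorem deg_twist (C : Scheme.{u}) [C.Over (Spec (CommRingCat.of k))] [IsProper (C ↘ Spec (CommRingCat.of k))]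
    [IsIntegral C] (hC : topologicalKrullDim C = 1) (j : C ⟶ CohB1.ProjSpace 4 k)
    (hdeg : Curv2.deg k C ((Scheme.Modules.pullback j).obj (Twist.twistProjSpace 4 k 1)) 1 = 5) (n : ℕ) :
    Curv2.deg k C ((Scheme.Modules.pullback j).obj (Twist.twistProjSpace 4 k (((n + 1 : ℕ)) : ℤ))) 1 =
      5 * ((n + 1 : ℕ) : ℤ) := by
  induction n with
  | zero => exact hdeg
  | succ n ih =>
    have h := deg_pull_twist_add j hC.le ((n + 1 : ℕ) : ℤ) 1
    rw [ih, hdeg] at h
    rw [show (((n + 1 + 1 : ℕ)) : ℤ) = ((n + 1 : ℕ) : ℤ) + 1 by push_cast; ring, h]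
    push_cast
    ring

variable [IsAlgClosed k]

theorem exists_solG_aux (f : Form 4 k 3) (hf : f ≠ 0) (hs : Smooth (ps f)) (C : Scheme.{u})
    [C.Over (Spec (CommRingCat.of k))] [IsProper (C ↘ Spec (CommRingCat.of k))]
    [IsIntegral C] (hC : topologicalKrullDim C = 1) (hg : Curv2.genus k C = 2)
    (j : C ⟶ CohB1.ProjSpace 4 k) [IsClosedImmersion j]
    (hj : j ≫ CohB1.ProjSpace.toSpec 4 k = C ↘ Spec (CommRingCat.of k))
    (hjf : hypIdeal f ≤ j.ker)
    (hdeg : Curv2.deg k C ((Scheme.Modules.pullback j).obj (Twist.twistProjSpace 4 k 1)) 1 = 5) :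
    ∃ q : DataG k, q.1 ∈ Sol f ∧ j.ker = cG q := by
  have hN := Groth.Agent.CurvesB.CurveRR.isNoetherian_of_proper k C
  have hdn := deg_twist C hC j hdeg
  have h0 : ∀ n : ℕ, 1 ≤ n → Module.finrank k
      (Coh.HH C ((Scheme.Modules.pullback j).obj (Twist.twistProjSpace 4 k (n : ℤ))) 0) = 5 * n - 1 := by
    intro n hn
    obtain ⟨m, rfl⟩ := Nat.exists_eq_add_of_le' hn
    have h := finrank_h0_of_deg k C hC (isInvertible_pull_twist j ((m + 1 : ℕ) : ℤ)) (by
      rw [hdn m, hg]
      push_cast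
      omega)
    rw [hdn m, hg] at h
    omega
  have h1 : ∀ n : ℕ, 1 ≤ n → Subsingleton
      (Coh.HH C ((Scheme.Modules.pullback j).obj (Twist.twistProjSpace 4 k (n : ℤ))) 1) := by
    intro n hn
    obtain ⟨m, rfl⟩ := Nat.exists_eq_add_of_le' hn
    refine Groth.Agent.S1522.result k C hC _ (isInvertible_pull_twist j ((m + 1 : ℕ) : ℤ)) ?_
    rw [hdn m, hg]
    push_cast
    omega
  have hfin : ∀ n : ℕ, Module.Finite k
      (Coh.HH C ((Scheme.Modules.pullback j).obj (Twist.twistProjSpace 4 k (n : ℤ))) 0) := fun n =>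
    Groth.Agent.VarietyA.CurveFin.finite_HH k C (isInvertible_pull_twist j (n : ℤ)) 0
  have hgen := K467.Cone.hI_eq_generic j
  have hmem : ∀ {d : ℕ} (G : Form 4 k d), sec' j G = 0 ↔ G.1 ∈ idl j := by
    intro d G
    rw [K675.Hilb.sec'_eq_zero_iff_mem, hgen]
  have hprime : (idl j).IsPrime := by
    have h := K467.Cone.hI_isPrime j
    rwa [hgen] at h
  have hzero : ∀ {d : ℕ} (G : Form 4 k d), formSec (d := d) C j hj G = 0 ↔ G.1 ∈ idl j := by
    intro d G
    rw [← hmem]
    constructor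
    · intro h
      exact (map_eq_zero_iff _ (Groth.Agent.CurvesB.HZero.equivAdd _).symm.injective).1 h
    · intro h
      exact (congrArg (Groth.Agent.CurvesB.HZero.equivAdd _).symm h).trans (map_zero _)
  have hsurj : ∀ d : ℕ, Function.Surjective (formSec (d := d) C j hj) ↔
      Function.Surjective (fun G : Form 4 k d => sec' j G) := by
    intro d
    constructor
    · intro h t
      obtain ⟨G, hG⟩ := h ((Groth.Agent.CurvesB.HZero.equivAdd _).symm t)
      exact ⟨G, (Groth.Agent.CurvesB.HZero.equivAdd _).symm.injective hG⟩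
    · intro h y
      obtain ⟨G, hG⟩ := h (Groth.Agent.CurvesB.HZero.equivAdd _ y)
      refine ⟨G, ?_⟩
      apply (Groth.Agent.CurvesB.HZero.equivAdd _).injective
      rw [← hG]
      exact (Groth.Agent.CurvesB.HZero.equivAdd _).apply_symm_apply _
  have hfP : f.1 ∈ idl j := by
    have h2 : (hypIdeal f).comap j = ⊥ := by
      rw [eq_bot_iff, ← Scheme.IdealSheafData.le_map_iff_comap_le, Scheme.IdealSheafData.map_bot]
      exact hjf
    exact (K33.Quadrics.comap_eq_bot_iff j f).1 h2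
  obtain ⟨q, hq, m0, m1, m2, m3, hgen'⟩ := main5 (idl j) f hfP (no_plane f hf hs)
    (fun n => Coh.HH C ((Scheme.Modules.pullback j).obj (Twist.twistProjSpace 4 k (n : ℤ))) 0)
    (fun n => formSec (d := n) C j hj) (fun n x => hzero x) h0
    (by
      obtain ⟨t₀, ht₀⟩ := K675.Hilb.exists_surj j
      exact ⟨t₀, fun n hn => (hsurj n).2 (ht₀ n hn)⟩)
    (by
      intro h2 n hn
      rw [hsurj] at h2 ⊢
      induction n, hn using Nat.le_induction with
      | base => exact h2
      | succ n hn ih =>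
        refine surj_succ j hC.le ?_ ih
        obtain ⟨m, rfl⟩ := Nat.exists_eq_add_of_le' (show 1 ≤ n by omega)
        have h3 := h1 m (by omega)
        rwa [show (((m + 1 : ℕ) : ℤ) - 1) = (m : ℤ) by push_cast; ring])
  exact ⟨q, hq, ker_eq4 j _ _ _ _ m0 m1 m2 m3 hgen'⟩

theorem exists_solG [CharZero k] (f : LefPen.Form 4 k 3) (hf : f ≠ 0) [Smooth (ps f)]
    (C : Scheme.{u}) (p : C ⟶ Spec (CommRingCat.of k)) (i : C ⟶ Xf f) (hcl : IsClosedImmersion i)
    (hip : i ≫ ps f = p) (hsm : Smooth p) (hpr : IsProper p) (hint : IsIntegral C)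
    (hdim : topologicalKrullDim C = 1) (hg : @Curv2.genus k _ C ⟨p⟩ = 2)
    (hdeg : @Curv2.deg k _ C ⟨p⟩ ((Scheme.Modules.pullback (i ≫ emb f)).obj (Twist.twistProjSpace 4 k 1)) 1 = 5) :
    ∃ q : DataG k, q.1 ∈ Sol f ∧ (i ≫ emb f).ker = cG q := by
  letI : C.Over (Spec (CommRingCat.of k)) := ⟨p⟩
  have hpr' : IsProper (C ↘ Spec (CommRingCat.of k)) := hpr
  refine exists_solG_aux f hf ‹_› C hdim hg (i ≫ emb f) (by rw [Category.assoc]; exact hip) ?_ hdeg
  have h1 : (emb f).ker = hypIdeal f := Scheme.IdealSheafData.ker_subschemeι _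
  rw [← h1]
  exact Scheme.Hom.le_ker_comp _ _

end Groth.Agent.Fano.K113.QuintClass
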