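import Groth.Agent.Fano.K113.QuintAlg
import Groth.Agent.Fano.K715.QuintDef
import Mathlib.RingTheory.MvPolynomial.Ideal

/-!
# Forms modulo a linear form; the algebra of the classification in five variables

* `exists_sum_X`: a form of positive degree is a combination of the coordinates; `lin_surjective`, `quad_surjective`;
* `exists_retract`: for a nonzero linear form `v` in `n + 2` variables a graded retraction onto a polynomial ring in
  `n + 1` variables with kernel `(v)`;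
* `main5`: the parametrization of the homogeneous ideal of a quintic curve of genus two on a cubic threefold.
-/

set_option autoImplicit false
universe u

open MvPolynomial LefPen

namespace K113.QuintRed

open K113.QuintAlg Groth.Agent.Fano.K714.Quart Groth.Agent.Fano.K715.Quint

variable {k : Type u} [Field k] {n : ℕ}

theorem exists_sum_X {d : ℕ} (p : Form n k (d + 1)) :
    ∃ q : Fin (n + 1) → Form n k d, p.1 = ∑ i, X i * (q i).1 := by
  have h1 : p.1 ∈ Ideal.span (X '' (Set.univ : Set (Fin (n + 1))) : Set (MvPolynomial (Fin (n + 1)) k)) := by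
    rw [MvPolynomial.mem_ideal_span_X_image]
    intro m hm
    have h2 : Finsupp.degree m = d + 1 := by
      have h3 := (hom p) (MvPolynomial.mem_support_iff.1 hm)
      rw [Finsupp.degree_eq_weight_one]
      exact h3
    by_contra hc
    push Not at hc
    have h4 : m = 0 := Finsupp.ext fun i => hc i (Set.mem_univ i)
    rw [h4] at h2
    simp at h2
  rw [Set.image_univ, Ideal.mem_span_range_iff_exists_fun] at h1
  obtain ⟨c, hc⟩ := h1
  refine ⟨fun i => ⟨homogeneousComponent d (c i), homogeneousComponent_isHomogeneous d (c i)⟩, ?_⟩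
  have h5 : homogeneousComponent (d + 1) (∑ i, c i * X i) = p.1 := by
    rw [hc, homogeneousComponent_of_mem (n := d + 1) p.2, if_pos rfl]
  rw [map_sum] at h5
  rw [← h5]
  refine Finset.sum_congr rfl fun i _ => ?_
  rw [homogeneousComponent_mul k d 1 (c i) (isHomogeneous_X k i), mul_comm]

theorem exists_lin_form (p : Form n k 1) : ∃ t : Fin (n + 1) → k, p.1 = ∑ i, X i * C (t i) := by
  obtain ⟨q, hq⟩ := exists_sum_X (d := 0) p
  choose t ht using fun i => exists_C (q i)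
  exact ⟨t, by rw [hq]; exact Finset.sum_congr rfl fun i _ => by rw [ht]⟩

theorem lin_val (t : Fin 5 → k) : (lin t).1 = ∑ i, X i * C (t i) := by
  rw [lin, Submodule.coe_sum]
  refine Finset.sum_congr rfl fun i _ => ?_
  rw [Submodule.coe_smul, smul_eq_C_mul, mul_comm]

theorem quad_val (M : Fin 5 → Fin 5 → k) : (quad M).1 = ∑ i, X i * ∑ j, X j * C (M i j) := by
  rw [quad, Submodule.coe_sum]
  refine Finset.sum_congr rfl fun i _ => ?_
  rw [Submodule.coe_sum, Finset.mul_sum]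
  refine Finset.sum_congr rfl fun j _ => ?_
  rw [Submodule.coe_smul, smul_eq_C_mul]
  change C (M i j) * (X i * X j) = _
  ring

theorem lin_surjective (p : Form 4 k 1) : ∃ t, lin t = p := by
  obtain ⟨t, ht⟩ := exists_lin_form p
  exact ⟨t, Subtype.ext (by rw [lin_val, ht])⟩

theorem quad_surjective (p : Form 4 k 2) : ∃ M, quad M = p := by
  obtain ⟨q, hq⟩ := exists_sum_X (d := 1) p
  choose t ht using fun i => exists_lin_form (q i)
  exact ⟨t, Subtype.ext (by rw [quad_val, hq]; exact Finset.sum_congr rfl fun i _ => by rw [ht])⟩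

/-- A graded retraction with kernel generated by a linear form. -/
theorem exists_retract (v : Form (n + 1) k 1) (hv : v ≠ 0) :
    ∃ (ρ : MvPolynomial (Fin (n + 1)) k →ₐ[k] MvPolynomial (Fin (n + 2)) k)
      (π : MvPolynomial (Fin (n + 2)) k →ₐ[k] MvPolynomial (Fin (n + 1)) k),
      (∀ x, π (ρ x) = x) ∧ π v.1 = 0 ∧ (∀ s, s - ρ (π s) ∈ Ideal.span {v.1}) ∧
      (∀ (d : ℕ) (x), x.IsHomogeneous d → (ρ x).IsHomogeneous d) ∧
      (∀ (d : ℕ) (s), s.IsHomogeneous d → (π s).IsHomogeneous d) := by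
  obtain ⟨t, ht⟩ := exists_lin_form v
  obtain ⟨i₀, hi₀⟩ : ∃ i, t i ≠ 0 := by
    by_contra hc
    push Not at hc
    refine ne_zero hv ?_
    rw [ht]
    exact Finset.sum_eq_zero fun i _ => by rw [hc i, C_0, mul_zero]
  let a : MvPolynomial (Fin (n + 1)) k := -(C (t i₀)⁻¹ * ∑ j, X j * C (t (i₀.succAbove j)))
  let g : Fin (n + 2) → MvPolynomial (Fin (n + 1)) k := Fin.insertNth (α := fun _ => MvPolynomial (Fin (n + 1)) k) i₀ a X
  have hg0 : g i₀ = a := Fin.insertNth_apply_same _ _ _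
  have hg1 : ∀ j, g (i₀.succAbove j) = X j := fun j => Fin.insertNth_apply_succAbove _ _ _ j
  let ρ : MvPolynomial (Fin (n + 1)) k →ₐ[k] MvPolynomial (Fin (n + 2)) k := rename i₀.succAbove
  let π : MvPolynomial (Fin (n + 2)) k →ₐ[k] MvPolynomial (Fin (n + 1)) k := aeval g
  have hcc : (C (t i₀)⁻¹ : MvPolynomial (Fin (n + 1)) k) * C (t i₀) = 1 := by
    rw [← C_mul, inv_mul_cancel₀ hi₀, C_1]
  have hcc' : (C (t i₀)⁻¹ : MvPolynomial (Fin (n + 2)) k) * C (t i₀) = 1 := by
    rw [← C_mul, inv_mul_cancel₀ hi₀, C_1]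
  have hπC : ∀ c : k, π (C c) = C c := fun c => π.commutes c
  have hρC : ∀ c : k, ρ (C c) = C c := fun c => ρ.commutes c
  have hπX : ∀ i, π (X i) = g i := fun i => aeval_X _ _
  have hρX : ∀ j, ρ (X j) = X (i₀.succAbove j) := fun j => rename_X _ _
  refine ⟨ρ, π, fun x => ?_, ?_, fun s => ?_, fun d x hx => hx.rename_isHomogeneous, fun d s hs => ?_⟩
  · have h : π.comp ρ = AlgHom.id k _ := by
      refine MvPolynomial.algHom_ext fun j => ?_
      rw [AlgHom.comp_apply, hρX, hπX, hg1, AlgHom.id_apply]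
    exact congrArg (fun φ : MvPolynomial (Fin (n + 1)) k →ₐ[k] MvPolynomial (Fin (n + 1)) k => φ x) h
  · rw [ht, map_sum, Fin.sum_univ_succAbove _ i₀, map_mul, hπX, hπC, hg0]
    have h : ∑ j, π (X (i₀.succAbove j) * C (t (i₀.succAbove j))) = ∑ j, X j * C (t (i₀.succAbove j)) :=
      Finset.sum_congr rfl fun j _ => by rw [map_mul, hπX, hπC, hg1]
    rw [h]
    change -(C (t i₀)⁻¹ * ∑ j, X j * C (t (i₀.succAbove j))) * C (t i₀) + _ = 0
    linear_combination (-(∑ j, X j * C (t (i₀.succAbove j)))) * hcc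
  · rw [← Ideal.Quotient.eq]
    have h : (Ideal.Quotient.mkₐ k (Ideal.span {v.1})) = (Ideal.Quotient.mkₐ k (Ideal.span {v.1})).comp (ρ.comp π) := by
      refine MvPolynomial.algHom_ext fun i => ?_
      rw [AlgHom.comp_apply, AlgHom.comp_apply, hπX]
      refine Fin.succAboveCases i₀ ?_ (fun j => ?_) i
      · rw [hg0]
        refine Ideal.Quotient.eq.2 ?_
        rw [Ideal.mem_span_singleton']
        refine ⟨C (t i₀)⁻¹, ?_⟩
        have h1 : ρ a = -(C (t i₀)⁻¹ * ∑ j, X (i₀.succAbove j) * C (t (i₀.succAbove j))) := by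
          change ρ (-(C (t i₀)⁻¹ * ∑ j, X j * C (t (i₀.succAbove j)))) = _
          rw [map_neg, map_mul, hρC, map_sum]
          congr 2
          exact Finset.sum_congr rfl fun j _ => by rw [map_mul, hρX, hρC]
        rw [h1, ht, Fin.sum_univ_succAbove _ i₀]
        linear_combination X i₀ * hcc'
      · rw [hg1, hρX]
    exact congrArg (fun φ : MvPolynomial (Fin (n + 2)) k →ₐ[k] _ => φ s) h
  · have h := hs.aeval g (n := 1) fun i => by
      refine Fin.succAboveCases i₀ ?_ (fun j => ?_) i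
      · rw [hg0]
        refine IsHomogeneous.neg ?_
        have h1 : (∑ j, X j * C (t (i₀.succAbove j)) : MvPolynomial (Fin (n + 1)) k).IsHomogeneous 1 :=
          IsHomogeneous.sum _ _ _ fun j _ => by
            have h2 := (isHomogeneous_X k j).mul (isHomogeneous_C (Fin (n + 1)) (t (i₀.succAbove j)))
            exact h2
        have h3 := (isHomogeneous_C (Fin (n + 1)) (t i₀)⁻¹).mul h1
        rwa [zero_add] at h3
      · rw [hg1]
        exact isHomogeneous_X k j
    rwa [one_mul] at h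

theorem qdG_val (p : DataG k) : (qdG p).1 = (lin (p.1.1 1)).1 * (lin (p.2 0)).1 + (lin (p.1.1 2)).1 * (lin (p.2 1)).1 :=
  rfl

theorem cubF_val (p : DataG k) : (cubF p).1 = (lin (p.1.1 1)).1 * (quad (p.1.2 1)).1 + (lin (p.1.1 2)).1 * (quad (p.1.2 2)).1 :=
  rfl

theorem cubG_val (p : DataG k) : (cubG p).1 = (lin (p.2 0)).1 * (quad (p.1.2 2)).1 - (lin (p.2 1)).1 * (quad (p.1.2 1)).1 :=
  rfl

theorem lin_smul_add (c0 c1 c2 : k) (v0 v1 v2 : Fin 5 → k) :
    (lin (c0 • v0 + c1 • v1 + c2 • v2)).1 = C c0 * (lin v0).1 + C c1 * (lin v1).1 + C c2 * (lin v2).1 := by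
  simp only [lin_val, Finset.mul_sum, ← Finset.sum_add_distrib]
  refine Finset.sum_congr rfl fun i _ => ?_
  simp only [Pi.add_apply, Pi.smul_apply, smul_eq_mul, C_add, C_mul]
  ring

theorem lin_eq_zero_iff {v : Fin 5 → k} (h : (lin v).1 = 0) : v = 0 := by
  funext i
  have h1 := congrArg (MvPolynomial.eval (Pi.single i 1)) h
  rw [eval_lin, map_zero] at h1
  rw [Finset.sum_eq_single i] at h1
  · simpa using h1
  · intro j _ hj
    simp [Pi.single_eq_of_ne hj]
  · simp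

theorem main5 (P : Ideal (MvPolynomial (Fin 5) k)) [hP : P.IsPrime] (f : Form 4 k 3) (hf : f.1 ∈ P)
    (hnp : ∀ l l' : Form 4 k 1, f.1 ∉ Ideal.span {l.1, l'.1})
    (V : ℕ → Type u) [∀ n, AddCommGroup (V n)] [∀ n, Module k (V n)] [∀ n, Module.Finite k (V n)]
    (φ : ∀ n, Form 4 k n →ₗ[k] V n) (hφ : ∀ n x, φ n x = 0 ↔ x.1 ∈ P)
    (hV : ∀ n, 1 ≤ n → Module.finrank k (V n) = 5 * n - 1)
    (hlarge : ∃ t₀, ∀ n, t₀ ≤ n → Function.Surjective (φ n))
    (hCM : Function.Surjective (φ 2) → ∀ n, 2 ≤ n → Function.Surjective (φ n)) :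
    ∃ q : DataG k, q.1 ∈ Sol f ∧ (lin (q.1.1 0)).1 ∈ P ∧ (qdG q).1 ∈ P ∧ (cubF q).1 ∈ P ∧ (cubG q).1 ∈ P ∧
      ∀ (m : ℕ) (x : Form 4 k (m + 4)), x.1 ∈ P →
        x.1 ∈ Ideal.span {(lin (q.1.1 0)).1, (qdG q).1, (cubF q).1, (cubG q).1} := by
  obtain ⟨v0, hv0P, hv0⟩ : ∃ v0 : Form 4 k 1, v0.1 ∈ P ∧ v0 ≠ 0 := by
    have h1 : Module.finrank k (V 1) < Module.finrank k (Form 4 k 1) := by
      rw [hV 1 le_rfl, K568.GenericForms.finrank_form]
      decide
    obtain ⟨l, hl, hl0⟩ := (Submodule.ne_bot_iff _).1 (LinearMap.ker_ne_bot_of_finrank_lt (f := φ 1) h1)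
    exact ⟨l, (hφ 1 l).1 hl, hl0⟩
  obtain ⟨ρ, π, hπρ, hπv, hρπ, hρh, hπh⟩ := exists_retract (n := 3) v0 hv0
  have hvP : Ideal.span {v0.1} ≤ P := by
    rw [Ideal.span_singleton_le_iff_mem]
    exact hv0P
  have memP : ∀ s, s ∈ P ↔ ρ (π s) ∈ P := by
    intro s
    have h := hvP (hρπ s)
    constructor
    · intro hs
      have h1 := P.sub_mem hs h
      rwa [sub_sub_cancel] at h1
    · intro hs
      have h1 := P.add_mem h hs
      rwa [sub_add_cancel] at h1
  let P' : Ideal (MvPolynomial (Fin 4) k) := P.comap ρ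
  have hP' : P'.IsPrime := Ideal.comap_isPrime ρ P
  have hmem' : ∀ x, x ∈ P' ↔ ρ x ∈ P := fun x => Iff.rfl
  let ρn : ∀ n, Form 3 k n →ₗ[k] Form 4 k n := fun n =>
    { toFun := fun x => ⟨ρ x.1, hρh n x.1 (hom x)⟩
      map_add' := fun x y => Subtype.ext (map_add ρ x.1 y.1)
      map_smul' := fun c x => Subtype.ext (map_smul ρ c x.1) }
  have hρn : ∀ n x, (ρn n x).1 = ρ x.1 := fun n x => rfl
  let F : Form 3 k 3 := ⟨π f.1, hπh 3 f.1 (hom f)⟩
  have hFv : F.1 = π f.1 := rfl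
  have hF : F.1 ∈ P' := (hmem' _).2 ((memP f.1).1 hf)
  have hFl : ∀ l : Form 3 k 1, l ≠ 0 → ¬ l.1 ∣ F.1 := by
    rintro l - ⟨c, hc⟩
    refine hnp (ρn 1 l) v0 ?_
    have h1 : f.1 = ρ c * (ρn 1 l).1 + (f.1 - ρ (π f.1)) := by
      rw [hρn, ← hFv, hc, map_mul]
      ring
    rw [h1]
    exact Ideal.add_mem _ (Ideal.mul_mem_left _ _ (Ideal.subset_span (by simp)))
      (Ideal.span_mono (by simp) (hρπ f.1))
  let ψ : ∀ n, Form 3 k n →ₗ[k] V n := fun n => (φ n).comp (ρn n)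
  have hker : ∀ n, LinearMap.ker (ψ n) = Pd P' n := by
    intro n
    ext x
    rw [LinearMap.mem_ker, mem_Pd, hmem', ← hρn n x]
    exact hφ n (ρn n x)
  have hsum : ∀ n, Module.finrank k (LinearMap.range (ψ n)) + Module.finrank k (Pd P' n) =
      Module.finrank k (Form 3 k n) := by
    intro n
    rw [← hker n]
    exact (ψ n).finrank_range_add_finrank_ker
  have hcomp : ∀ n (s : Form 4 k n), ∃ x : Form 3 k n, ψ n x = φ n s := by
    intro n s
    refine ⟨⟨π s.1, hπh n s.1 (hom s)⟩, ?_⟩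
    rw [← sub_eq_zero]
    change φ n (ρn n ⟨π s.1, hπh n s.1 (hom s)⟩) - φ n s = 0
    rw [← map_sub, hφ]
    change ρ (π s.1) - s.1 ∈ P
    have h := P.neg_mem (hvP (hρπ s.1))
    rwa [neg_sub] at h
  have hfull : ∀ n, 1 ≤ n → Function.Surjective (φ n) →
      Module.finrank k (Form 3 k n) = Module.finrank k (Pd P' n) + (5 * n - 1) := by
    intro n hn hs
    have h1 : LinearMap.range (ψ n) = ⊤ := by
      rw [LinearMap.range_eq_top]
      intro y
      obtain ⟨s, rfl⟩ := hs y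
      exact hcomp n s
    have h2 := hsum n
    rw [h1, finrank_top, hV n hn] at h2
    omega
  obtain ⟨v1, v2, a, b, M1, M2, hind, hFe, hQP, hGP, hgen⟩ := K113.QuintAlg.main P' F hF hFl
    (fun n hn => by
      have h1 := hsum n
      have h2 := Submodule.finrank_le (LinearMap.range (ψ n))
      rw [hV n hn] at h2
      omega)
    (by
      obtain ⟨t₀, ht₀⟩ := hlarge
      exact ⟨t₀ + 1, fun n hn => hfull n (by omega) (ht₀ n (by omega))⟩)
    (by
      intro h n hn
      refine hfull n (by omega) (hCM ?_ n hn)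
      have h1 := hsum 2
      have h2 : LinearMap.range (ψ 2) = ⊤ := by
        apply Submodule.eq_top_of_finrank_eq
        rw [hV 2 (by omega)]
        omega
      intro y
      obtain ⟨x, hx⟩ := (LinearMap.range_eq_top.1 h2) y
      exact ⟨ρn 2 x, hx⟩)
  obtain ⟨c0, hc0⟩ := lin_surjective v0
  obtain ⟨c1, hc1⟩ := lin_surjective (ρn 1 v1)
  obtain ⟨c2, hc2⟩ := lin_surjective (ρn 1 v2)
  obtain ⟨α, hα⟩ := lin_surjective (ρn 1 a)
  obtain ⟨β, hβ⟩ := lin_surjective (ρn 1 b)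
  obtain ⟨N1, hN1⟩ := quad_surjective (ρn 2 M1)
  obtain ⟨N2, hN2⟩ := quad_surjective (ρn 2 M2)
  obtain ⟨M0, hM0⟩ := exists_of_dvd (b := 2) (by omega) v0 (f - ρn 3 F) (by
    rw [← Ideal.mem_span_singleton]
    exact hρπ f.1)
  obtain ⟨N0, hN0⟩ := quad_surjective M0
  replace hM0 : f.1 - ρ (π f.1) = v0.1 * M0.1 := hM0
  let q : DataG k := ((![c0, c1, c2], ![N0, N1, N2]), ![α, β])
  have e0 : (lin (q.1.1 0)).1 = v0.1 := congrArg Subtype.val hc0
  have e1 : (lin (q.1.1 1)).1 = ρ v1.1 := congrArg Subtype.val hc1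
  have e2 : (lin (q.1.1 2)).1 = ρ v2.1 := congrArg Subtype.val hc2
  have ea : (lin (q.2 0)).1 = ρ a.1 := congrArg Subtype.val hα
  have eb : (lin (q.2 1)).1 = ρ b.1 := congrArg Subtype.val hβ
  have eN0 : (quad (q.1.2 0)).1 = M0.1 := congrArg Subtype.val hN0
  have eN1 : (quad (q.1.2 1)).1 = ρ M1.1 := congrArg Subtype.val hN1
  have eN2 : (quad (q.1.2 2)).1 = ρ M2.1 := congrArg Subtype.val hN2
  have eQ : (qdG q).1 = ρ (v1.1 * a.1 + v2.1 * b.1) := by
    rw [qdG_val, e1, e2, ea, eb, map_add, map_mul, map_mul]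
  have eF : (cubF q).1 = ρ F.1 := by
    rw [cubF_val, e1, e2, eN1, eN2, hFe, map_add, map_mul, map_mul]
  have eG : (cubG q).1 = ρ (a.1 * M2.1 - b.1 * M1.1) := by
    rw [cubG_val, ea, eb, eN1, eN2, map_sub, map_mul, map_mul]
  refine ⟨q, ⟨?_, ?_⟩, ?_, ?_, ?_, ?_, fun m x hx => ?_⟩
  · rw [Fintype.linearIndependent_iff]
    intro g hg
    rw [Fin.sum_univ_three] at hg
    have h1 := lin_smul_add (g 0) (g 1) (g 2) (q.1.1 0) (q.1.1 1) (q.1.1 2)
    rw [hg] at h1
    have h0 : (lin (0 : Fin 5 → k)).1 = 0 := by rw [lin_val]; simp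
    rw [h0, e0, e1, e2] at h1
    have h2 := congrArg π h1
    rw [map_zero, map_add, map_add, map_mul, map_mul, map_mul, hπv, hπρ, hπρ, mul_zero, zero_add] at h2
    have hπC : ∀ c : k, π (C c) = C c := fun c => π.commutes c
    rw [hπC, hπC] at h2
    have h3 := hind (g 1) (g 2) (Subtype.ext (by
      change (g 1) • v1.1 + (g 2) • v2.1 = 0
      rw [smul_eq_C_mul, smul_eq_C_mul, ← h2]))
    rw [h3.1, h3.2, C_0, zero_mul, zero_mul, add_zero, add_zero] at h1
    have h4 : C (g 0) = (0 : MvPolynomial (Fin 5) k) := (mul_eq_zero.1 h1.symm).resolve_right (ne_zero hv0)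
    have h5 : g 0 = 0 := by
      rw [← C_0] at h4
      exact C_injective _ _ h4
    intro i
    fin_cases i
    · exact h5
    · exact h3.1
    · exact h3.2
  · rw [Fin.sum_univ_three]
    change f.1 = (lin (q.1.1 0)).1 * (quad (q.1.2 0)).1 + (lin (q.1.1 1)).1 * (quad (q.1.2 1)).1 +
      (lin (q.1.1 2)).1 * (quad (q.1.2 2)).1
    rw [e0, e1, e2, eN0, eN1, eN2, ← hM0, ← hFv, hFe, map_add, map_mul, map_mul]
    ring
  · rw [e0]
    exact hv0P
  · rw [eQ]
    exact hQP
  · rw [eF]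
    exact hF
  · rw [eG]
    exact hGP
  · have h1 : ρ (π x.1) ∈ Ideal.span {(qdG q).1, (cubF q).1, (cubG q).1} := by
      have h2 := hgen m ⟨π x.1, hπh _ x.1 (hom x)⟩ ((hmem' _).2 ((memP x.1).1 hx))
      have h3 := Ideal.mem_map_of_mem ρ h2
      rw [Ideal.map_span, Set.image_insert_eq, Set.image_insert_eq, Set.image_singleton, ← eQ, ← eF, ← eG] at h3
      exact h3
    have h4 : x.1 = (x.1 - ρ (π x.1)) + ρ (π x.1) := by ring
    rw [h4]
    refine Ideal.add_mem _ (Ideal.span_mono ?_ (hρπ x.1)) (Ideal.span_mono ?_ h1)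
    · rw [e0]
      simp
    · exact Set.subset_insert _ _

end K113.QuintRed
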